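import Groth.Prelude.Def_FibClv

/-! Elementary lemmas on cleavages. -/

set_option backward.isDefEq.respectTransparency false
set_option backward.isDefEq.respectTransparency.types false

universe v₁ v₂ u₁ u₂

open CategoryTheory CategoryTheory.Functor

namespace Groth.Agent.FibClv.Basic

variable {𝒮 : Type u₁} {𝒳 : Type u₂} [Category.{v₁} 𝒮] [Category.{v₂} 𝒳] {p : 𝒳 ⥤ 𝒮}
  (K : FibCat.Cleavage p)

theorem congr_fac {R S : 𝒮} {f f' : R ⟶ S} (h : f = f') (a : p.Fiber S) :
    Fiber.fiberInclusion.map ((K.inverseImageCongr h).hom.app a) ≫ K.lift a.2 f' = K.lift a.2 f := by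
  subst h
  simp [FibCat.Cleavage.inverseImageCongr]

theorem comp_fac {R T S : 𝒮} (f : T ⟶ S) (g : R ⟶ T) (a : p.Fiber S) :
    Fiber.fiberInclusion.map ((K.comp f g).app a) ≫ K.lift a.2 (g ≫ f) =
      K.lift (K.obj_proj a.2 f) g ≫ K.lift a.2 f :=
  IsCartesian.fac p (g ≫ f) (K.lift a.2 (g ≫ f)) _

theorem map_fac {R S : 𝒮} (f : R ⟶ S) {a b : p.Fiber S} (φ : a ⟶ b) :
    Fiber.fiberInclusion.map ((K.inverseImage f).map φ) ≫ K.lift b.2 f =
      K.lift a.2 f ≫ Fiber.fiberInclusion.map φ :=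
  IsCartesian.fac p f (K.lift b.2 f) _

/-- Morphisms of a fibre are determined by their composite with a chosen lift. -/
theorem fiber_ext {R S : 𝒮} (f : R ⟶ S) (a : p.Fiber S) {b : p.Fiber R}
    {u u' : b ⟶ (K.inverseImage f).obj a}
    (h : Fiber.fiberInclusion.map u ≫ K.lift a.2 f = Fiber.fiberInclusion.map u' ≫ K.lift a.2 f) :
    u = u' := by
  apply Fiber.hom_ext
  haveI : p.IsHomLift (𝟙 R) (Fiber.fiberInclusion.map u) := u.2
  haveI : p.IsHomLift (𝟙 R) (Fiber.fiberInclusion.map u') := u'.2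
  exact IsCartesian.ext p f (K.lift a.2 f) _ _ h

/-- A morphism of a fibre with invertible underlying morphism is invertible. -/
theorem isIso_of_isIso_map {S : 𝒮} {a b : p.Fiber S} (u : a ⟶ b)
    [IsIso (Fiber.fiberInclusion.map u)] : IsIso u := by
  haveI : p.IsHomLift (𝟙 S) (Fiber.fiberInclusion.map u) := u.2
  haveI : p.IsHomLift (𝟙 S) (inv (Fiber.fiberInclusion.map u)) :=
    IsHomLift.lift_id_inv_isIso p S (Fiber.fiberInclusion.map u)
  refine ⟨⟨Fiber.homMk p S (inv (Fiber.fiberInclusion.map u)), ?_, ?_⟩⟩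
  · apply Fiber.hom_ext
    simp
  · apply Fiber.hom_ext
    simp

/-- `comp` is invertible for a fibred category. -/
theorem isIso_comp [p.IsFibered] {R T S : 𝒮} (f : T ⟶ S) (g : R ⟶ T) : IsIso (K.comp f g) := by
  haveI : ∀ a, IsIso ((K.comp f g).app a) := fun a => by
    haveI : p.IsHomLift (𝟙 R) (Fiber.fiberInclusion.map ((K.comp f g).app a)) := ((K.comp f g).app a).2
    have e : Fiber.fiberInclusion.map ((K.comp f g).app a) =
        (IsCartesian.domainUniqueUpToIso p (g ≫ f) (K.lift a.2 (g ≫ f))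
          (K.lift (K.obj_proj a.2 f) g ≫ K.lift a.2 f)).hom :=
      rfl
    haveI : IsIso (Fiber.fiberInclusion.map ((K.comp f g).app a)) := by rw [e]; exact Iso.isIso_hom _
    exact isIso_of_isIso_map _
  exact NatIso.isIso_of_isIso_app _

end Groth.Agent.FibClv.Basic
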