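import Groth.Prelude.Def_FibCat2

/-! Composites of fibred functors, and functors with unique lifts (discrete fibrations). -/

universe v₁ v₂ v₃ u₁ u₂ u₃

open CategoryTheory CategoryTheory.Functor

namespace Groth.Agent.FibClv.DiscFib

variable {A : Type u₁} [Category.{v₁} A] {B : Type u₂} [Category.{v₂} B] {C : Type u₃} [Category.{v₃} C]

theorem homLift_comp_of {F : A ⥤ B} (G : B ⥤ C) {x y : A} {R S : C} (g : R ⟶ S) (χ : x ⟶ y)
    [G.IsHomLift g (F.map χ)] : (F ⋙ G).IsHomLift g χ := by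
  subst_hom_lift G g (F.map χ)
  exact IsHomLift.map (F ⋙ G) χ

theorem homLift_of_comp (F : A ⥤ B) (G : B ⥤ C) {x y : A} {R S : C} (g : R ⟶ S) (χ : x ⟶ y)
    [(F ⋙ G).IsHomLift g χ] : G.IsHomLift g (F.map χ) := by
  subst_hom_lift (F ⋙ G) g χ
  exact IsHomLift.map G (F.map χ)

theorem strongly_comp (F : A ⥤ B) (G : B ⥤ C) {x y : A} (φ : x ⟶ y)
    [F.IsStronglyCartesian (F.map φ) φ] [G.IsStronglyCartesian (G.map (F.map φ)) (F.map φ)] :
    (F ⋙ G).IsStronglyCartesian ((F ⋙ G).map φ) φ := by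
  constructor
  intro a' g φ' hφ'
  haveI : G.IsHomLift (g ≫ G.map (F.map φ)) (F.map φ') := homLift_of_comp F G (g ≫ (F ⋙ G).map φ) φ'
  obtain ⟨h, ⟨hh, hfac⟩, huniq⟩ := IsStronglyCartesian.universal_property' (p := G)
    (f := G.map (F.map φ)) (φ := F.map φ) g (F.map φ')
  haveI : F.IsHomLift (h ≫ F.map φ) φ' := by rw [hfac]; infer_instance
  obtain ⟨χ, ⟨hχ, hχfac⟩, hχuniq⟩ := IsStronglyCartesian.universal_property' (p := F)
    (f := F.map φ) (φ := φ) h φ'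
  haveI : G.IsHomLift g (F.map χ) := by rw [← IsHomLift.eq_of_isHomLift F h χ]; exact hh
  refine ⟨χ, ⟨homLift_comp_of G g χ, hχfac⟩, fun χ' ⟨hχ', hfac'⟩ => ?_⟩
  have hm : F.map χ' = h := huniq (F.map χ')
    ⟨homLift_of_comp F G g χ', by rw [← F.map_comp, hfac']⟩
  exact hχuniq χ' ⟨hm ▸ IsHomLift.map F χ', hfac'⟩

/-- Cartesian morphisms of a fibred category, with the base map normalised. -/
theorem exists_strongly (p : A ⥤ B) [p.IsFibered] {a : A} {R : B} (f : R ⟶ p.obj a) :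
    ∃ (b : A) (φ : b ⟶ a), p.IsHomLift f φ ∧ p.IsStronglyCartesian (p.map φ) φ := by
  obtain ⟨b, φ, hφ⟩ := IsPreFibered.exists_isCartesian' (p := p) f
  refine ⟨b, φ, inferInstance, ?_⟩
  obtain rfl := IsHomLift.domain_eq p f φ
  rw [← IsHomLift.eq_of_isHomLift p f φ]
  infer_instance

theorem exists_lift_comp (F : A ⥤ B) (G : B ⥤ C) {a : A} {R : C} (f : R ⟶ G.obj (F.obj a))
    {P : ∀ {x y : A}, (x ⟶ y) → Prop} {Q : ∀ {x y : B}, (x ⟶ y) → Prop}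
    (hG : ∀ {z : B} {R : C} (f : R ⟶ G.obj z), ∃ (b : B) (ψ : b ⟶ z), G.IsHomLift f ψ ∧ Q ψ)
    (hF : ∀ {z : A} {R : B} (f : R ⟶ F.obj z), ∃ (b : A) (ψ : b ⟶ z), F.IsHomLift f ψ ∧ P ψ) :
    ∃ (b : A) (φ : b ⟶ a), (F ⋙ G).IsHomLift f φ ∧ P φ ∧ Q (F.map φ) := by
  obtain ⟨b₁, ψ, hψ, hQ⟩ := hG f
  obtain ⟨b, φ, hφ, hP⟩ := hF ψ
  obtain rfl := IsHomLift.domain_eq F ψ φ
  obtain rfl := IsHomLift.eq_of_isHomLift F ψ φ
  exact ⟨b, φ, homLift_comp_of G f φ, hP, hQ⟩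

theorem isFibered_comp (F : A ⥤ B) (G : B ⥤ C) [F.IsFibered] [G.IsFibered] : (F ⋙ G).IsFibered := by
  refine IsFibered.of_exists_isStronglyCartesian fun a R f => ?_
  obtain ⟨b, φ, hφ, hP, hQ⟩ := exists_lift_comp F G (a := a) f
    (P := fun {x y} χ => F.IsStronglyCartesian (F.map χ) χ)
    (Q := fun {x y} χ => G.IsStronglyCartesian (G.map χ) χ)
    (fun f => exists_strongly G f) (fun f => exists_strongly F f)
  haveI := hP
  haveI := hQ
  haveI := strongly_comp F G φ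
  haveI := hφ
  refine ⟨b, φ, ?_⟩
  obtain rfl := IsHomLift.domain_eq (F ⋙ G) f φ
  rw [IsHomLift.eq_of_isHomLift (F ⋙ G) f φ]
  infer_instance

theorem isFibGrpd_comp (F : A ⥤ B) (G : B ⥤ C) (hF : FibCat.IsFibGrpd F) (hG : FibCat.IsFibGrpd G) :
    FibCat.IsFibGrpd (F ⋙ G) where
  exists_lift := fun {a R} f => by
    obtain ⟨b, φ, hφ, -, -⟩ := exists_lift_comp F G (a := a) f
      (P := fun {x y} _ => True) (Q := fun {x y} _ => True)
      (fun f => by obtain ⟨b, φ, h⟩ := hG.exists_lift f; exact ⟨b, φ, h, trivial⟩)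
      (fun f => by obtain ⟨b, φ, h⟩ := hF.exists_lift f; exact ⟨b, φ, h, trivial⟩)
    exact ⟨b, φ, hφ⟩
  isStronglyCartesian := fun φ => by
    haveI := hF.isStronglyCartesian φ
    haveI := hG.isStronglyCartesian (F.map φ)
    exact strongly_comp F G φ

/-- Unique lifts with prescribed target. -/
def UniqueLifts (G : B ⥤ C) : Prop :=
  ∀ (η : B) (U : C) (f : U ⟶ G.obj η), ∃! φ : (Σ ξ : B, (ξ ⟶ η)), G.IsHomLift f φ.2

variable {G : B ⥤ C} (hG : UniqueLifts G)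

include hG in
theorem sigma_eq {z : B} {R : C} {f : R ⟶ G.obj z} {ξ ξ' : B} (a : ξ ⟶ z) (b : ξ' ⟶ z)
    [ha : G.IsHomLift f a] [hb : G.IsHomLift f b] :
    (⟨ξ, a⟩ : Σ ξ : B, (ξ ⟶ z)) = ⟨ξ', b⟩ :=
  (hG z R f).unique (y₁ := ⟨ξ, a⟩) (y₂ := ⟨ξ', b⟩) ha hb

include hG in
theorem map_injective' {x z : B} (a b : x ⟶ z) (h : G.map a = G.map b) : a = b := by
  haveI : G.IsHomLift (G.map a) b := by rw [h]; infer_instance
  exact eq_of_heq (Sigma.mk.inj (sigma_eq hG (f := G.map a) a b)).2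

include hG in
theorem strongly {ξ η : B} (ψ : ξ ⟶ η) : G.IsStronglyCartesian (G.map ψ) ψ := by
  constructor
  intro ζ g χ hχ
  obtain ⟨⟨ζ', τ⟩, hτ : G.IsHomLift g τ, -⟩ := hG ξ _ g
  have e := sigma_eq hG (f := g ≫ G.map ψ) (τ ≫ ψ) χ
  obtain ⟨rfl, h2⟩ := Sigma.mk.inj e
  refine ⟨τ, ⟨hτ, eq_of_heq h2⟩, fun τ' ⟨hτ', _⟩ => ?_⟩
  exact map_injective' hG τ' τ ((IsHomLift.eq_of_isHomLift G g τ').symm.trans (IsHomLift.eq_of_isHomLift G g τ))

include hG in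
theorem isFibGrpd : FibCat.IsFibGrpd G where
  exists_lift := fun {x V} f => by
    obtain ⟨⟨y, φ⟩, h, -⟩ := hG x V f
    exact ⟨y, φ, h⟩
  isStronglyCartesian := fun φ => strongly hG φ

include hG in
theorem isFibered : G.IsFibered := by
  refine IsFibered.of_exists_isStronglyCartesian fun a R f => ?_
  obtain ⟨⟨y, φ⟩, h, -⟩ := hG a R f
  haveI : G.IsHomLift f φ := h
  haveI := strongly hG φ
  refine ⟨y, φ, ?_⟩
  obtain rfl := IsHomLift.domain_eq G f φ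
  rw [IsHomLift.eq_of_isHomLift G f φ]
  infer_instance

include hG in
theorem homLift_descend (F : A ⥤ B) {x y : A} {R : B} (f : R ⟶ F.obj y) (φ : x ⟶ y)
    [(F ⋙ G).IsHomLift (G.map f) φ] : F.IsHomLift f φ := by
  haveI := homLift_of_comp F G (G.map f) φ
  obtain ⟨rfl, h⟩ := Sigma.mk.inj (sigma_eq hG (f := G.map f) f (F.map φ))
  rw [eq_of_heq h]
  infer_instance

include hG in
theorem strongly_descend (F : A ⥤ B) {x y : A} (φ : x ⟶ y)
    [(F ⋙ G).IsStronglyCartesian ((F ⋙ G).map φ) φ] : F.IsStronglyCartesian (F.map φ) φ := by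
  constructor
  intro a' g φ' hφ'
  haveI : (F ⋙ G).IsHomLift (G.map g ≫ (F ⋙ G).map φ) φ' := by
    have hm : F.map φ' = g ≫ F.map φ := (IsHomLift.eq_of_isHomLift F _ φ').symm
    have hc : G.map g ≫ (F ⋙ G).map φ = (F ⋙ G).map φ' := by
      show G.map g ≫ G.map (F.map φ) = G.map (F.map φ')
      rw [hm, G.map_comp]
    rw [hc]; infer_instance
  obtain ⟨χ, ⟨hχ, hfac⟩, huniq⟩ := IsStronglyCartesian.universal_property' (p := F ⋙ G)
    (f := (F ⋙ G).map φ) (φ := φ) (G.map g) φ'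
  refine ⟨χ, ⟨?_, hfac⟩, fun χ' ⟨hχ', hfac'⟩ => huniq χ' ⟨?_, hfac'⟩⟩
  · have : g = F.map χ := map_injective' hG g (F.map χ) (IsHomLift.eq_of_isHomLift (F ⋙ G) (G.map g) χ)
    rw [this]; infer_instance
  · rw [show g = F.map χ' from IsHomLift.eq_of_isHomLift F g χ']
    exact IsHomLift.map (F ⋙ G) χ'

theorem uniqueLifts_of_isFibSet {G : B ⥤ C} (h : FibCat.IsFibSet G) : UniqueLifts G := by
  intro η U f
  obtain ⟨ξ, ψ, hψ⟩ := h.1.exists_lift f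
  refine ⟨⟨ξ, ψ⟩, hψ, ?_⟩
  rintro ⟨ξ', ψ'⟩ (hψ' : G.IsHomLift f ψ')
  haveI := h.1.isStronglyCartesian ψ
  haveI : G.IsStronglyCartesian f ψ := by
    obtain rfl := IsHomLift.domain_eq G f ψ
    rw [IsHomLift.eq_of_isHomLift G f ψ]
    infer_instance
  let τ := IsCartesian.map G f ψ ψ'
  let a : G.Fiber U := Subtype.mk ξ' (IsHomLift.domain_eq G f ψ')
  let b : G.Fiber U := Subtype.mk ξ (IsHomLift.domain_eq G f ψ)
  let t : a ⟶ b := ⟨τ, inferInstance⟩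
  obtain rfl : ξ' = ξ := congrArg Subtype.val ((h.2 U).eq_of_hom t)
  have ht : t = 𝟙 a := ((h.2 U).subsingleton a a).elim _ _
  have hτ : τ = 𝟙 ξ' := congrArg Subtype.val ht
  have := IsCartesian.fac G f ψ ψ'
  change τ ≫ ψ = ψ' at this
  rw [hτ, Category.id_comp] at this
  rw [this]

include hG in
theorem isFibSet : FibCat.IsFibSet G := by
  refine ⟨isFibGrpd hG, fun U => ?_⟩
  have key : ∀ {a b : G.Fiber U} (u : a ⟶ b), ∃ h : a = b, u = eqToHom h := by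
    rintro ⟨a, ha⟩ ⟨b, hb⟩ ⟨(u : a ⟶ b), hu⟩
    subst hb
    haveI : G.IsHomLift (𝟙 (G.obj b)) u := hu
    obtain ⟨e, h2⟩ := Sigma.mk.inj (sigma_eq hG (f := 𝟙 (G.obj b)) u (𝟙 b))
    subst e
    exact ⟨rfl, Subtype.ext (eq_of_heq h2)⟩
  refine { subsingleton := fun a b => ⟨fun u v => ?_⟩, eq_of_hom := fun u => (key u).1 }
  obtain ⟨h, rfl⟩ := key u
  exact ((key v).2).symm

end Groth.Agent.FibClv.DiscFib
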