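import Groth.Prelude.Def_FibCat2

/-! Equivalences over the base: fully faithful and essentially surjective over identities. -/

set_option backward.isDefEq.respectTransparency false
set_option backward.isDefEq.respectTransparency.types false

universe v₂ v₃ u₂ u₃ v u

open CategoryTheory CategoryTheory.Functor

namespace Groth.Agent.FibClv.EquivOver

variable {C : Type u} [Category.{v} C] {𝒳 : BasedCategory.{v₂, u₂} C} {𝒴 : BasedCategory.{v₃, u₃} C}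

theorem fullyFaithful_essSurjOver (F : 𝒳 ⥤ᵇ 𝒴) (h : FibCat.IsEquivOver F) :
    (F.toFunctor.Full ∧ F.toFunctor.Faithful) ∧ ∀ η : 𝒴.obj, ∃ (ξ : 𝒳.obj) (e : F.toFunctor.obj ξ ≅ η),
      𝒴.p.IsHomLift (𝟙 (𝒴.p.obj η)) e.hom := by
  obtain ⟨G, ⟨u⟩, ⟨c⟩⟩ := h
  let u' : F.toFunctor ⋙ G.toFunctor ≅ 𝟭 𝒳.obj := (BasedNatTrans.forgetful _ _).mapIso u
  let c' : G.toFunctor ⋙ F.toFunctor ≅ 𝟭 𝒴.obj := (BasedNatTrans.forgetful _ _).mapIso c
  haveI : F.toFunctor.IsEquivalence := Functor.IsEquivalence.mk' G.toFunctor u'.symm c'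
  exact ⟨⟨inferInstance, inferInstance⟩, fun η => ⟨G.obj η, c'.app η, c.hom.isHomLift' η⟩⟩

theorem isEquivOver_of (F : 𝒳 ⥤ᵇ 𝒴) [F.toFunctor.Full] [F.toFunctor.Faithful]
    (h : ∀ η : 𝒴.obj, ∃ (ξ : 𝒳.obj) (e : F.toFunctor.obj ξ ≅ η), 𝒴.p.IsHomLift (𝟙 (𝒴.p.obj η)) e.hom) :
    FibCat.IsEquivOver F := by
  choose ξ e he using h
  have hobj : ∀ η, 𝒳.p.obj (ξ η) = 𝒴.p.obj η := fun η =>
    (F.w_obj (ξ η)).symm.trans (@IsHomLift.domain_eq _ _ _ _ 𝒴.p _ _ _ _ (𝟙 (𝒴.p.obj η)) (e η).hom (he η))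
  let G₀ : 𝒴.obj ⥤ 𝒳.obj :=
    { obj := ξ
      map := fun {η η'} φ => F.toFunctor.preimage ((e η).hom ≫ φ ≫ (e η').inv)
      map_id := fun η => F.toFunctor.map_injective (by simp)
      map_comp := fun φ ψ => F.toFunctor.map_injective (by simp) }
  have hlift : ∀ {η η'} (φ : η ⟶ η'), 𝒳.p.IsHomLift (𝒴.p.map φ) (G₀.map φ) := fun {η η'} φ => by
    rw [← BasedFunctor.isHomLift_iff F]
    show 𝒴.p.IsHomLift (𝒴.p.map φ) (F.toFunctor.map (F.toFunctor.preimage _))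
    rw [F.toFunctor.map_preimage]
    haveI := he η
    haveI := he η'
    infer_instance
  let G : 𝒴 ⥤ᵇ 𝒳 :=
    { toFunctor := G₀
      w := CategoryTheory.Functor.ext hobj (fun η η' φ => @IsHomLift.fac' _ _ _ _ 𝒳.p _ _ _ _ _ _ (hlift φ)) }
  let unit : F.toFunctor ⋙ G₀ ≅ 𝟭 𝒳.obj :=
    NatIso.ofComponents (fun x => F.toFunctor.preimageIso (e (F.obj x)))
      (fun {x y} φ => F.toFunctor.map_injective (by simp [G₀]))
  let counit : G₀ ⋙ F.toFunctor ≅ 𝟭 𝒴.obj :=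
    NatIso.ofComponents (fun η => e η) (fun {η η'} φ => by simp [G₀])
  refine ⟨G, ⟨BasedNatIso.mkNatIso unit fun x => ?_⟩, ⟨BasedNatIso.mkNatIso counit fun η => he η⟩⟩
  rw [← BasedFunctor.isHomLift_iff F]
  show 𝒴.p.IsHomLift (𝟙 (𝒳.p.obj x)) (F.toFunctor.map (F.toFunctor.preimage _))
  rw [F.toFunctor.map_preimage, ← F.w_obj x]
  exact he (F.obj x)

theorem isStronglyCartesian_map (F : 𝒳 ⥤ᵇ 𝒴) (hF : FibCat.IsEquivOver F) {R S : C} (f : R ⟶ S)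
    {a b : 𝒳.obj} (φ : a ⟶ b) [𝒳.p.IsStronglyCartesian f φ] : 𝒴.p.IsStronglyCartesian f (F.map φ) := by
  obtain ⟨⟨hfull, hfaith⟩, hess⟩ := fullyFaithful_essSurjOver F hF
  constructor
  intro a' g φ' hφ'
  obtain ⟨c, e, he⟩ := hess a'
  have hc : 𝒳.p.obj c = 𝒴.p.obj a' :=
    (F.w_obj c).symm.trans (IsHomLift.domain_eq 𝒴.p (𝟙 (𝒴.p.obj a')) e.hom)
  haveI : 𝒳.p.IsHomLift (g ≫ f) (F.toFunctor.preimage (e.hom ≫ φ')) := by
    rw [← BasedFunctor.isHomLift_iff F]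
    show 𝒴.p.IsHomLift (g ≫ f) (F.toFunctor.map (F.toFunctor.preimage _))
    rw [F.toFunctor.map_preimage]
    infer_instance
  obtain ⟨χ, ⟨hχ, hfac⟩, huniq⟩ := IsStronglyCartesian.universal_property 𝒳.p f φ g (g ≫ f) rfl
    (F.toFunctor.preimage (e.hom ≫ φ'))
  haveI := hχ
  refine ⟨e.inv ≫ F.map χ, ⟨inferInstance, ?_⟩, fun χ' ⟨hχ', hfac'⟩ => ?_⟩
  · rw [Category.assoc, ← F.toFunctor.map_comp, hfac, F.toFunctor.map_preimage, e.inv_hom_id_assoc]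
  · have h1 : 𝒳.p.IsHomLift g (F.toFunctor.preimage (e.hom ≫ χ')) := by
      rw [← BasedFunctor.isHomLift_iff F]
      show 𝒴.p.IsHomLift g (F.toFunctor.map (F.toFunctor.preimage _))
      rw [F.toFunctor.map_preimage]
      haveI := hχ'
      infer_instance
    rw [← huniq _ ⟨h1, F.toFunctor.map_injective (by simp [hfac'])⟩, F.toFunctor.map_preimage, e.inv_hom_id_assoc]

end Groth.Agent.FibClv.EquivOver
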